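import Mathlib
import Cfsg.Agent.Lib.Helper19.KAlt.Defs

/-!
# KALT (S0747), package [RESTR]: restriction to `F`
-/

set_option autoImplicit false

namespace Cfsg.Agent.Lib.Helper46.KAlt

open Cfsg.Agent.Lib.Helper75.LW Cfsg.Agent.Lib.Helper19.KAlt

universe u

/-- the group induced on `F` by the elements of `G` mapping `F` into itself -/
def restrGroup {α : Type u} (G : Subgroup (Equiv.Perm α)) (F : Finset α) :
    Subgroup (Equiv.Perm ↥F) where
  carrier := {τ | ∃ g ∈ G, ∀ x : ↥F, g (x : α) = τ x}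
  mul_mem' := by
    rintro τ τ' ⟨g, hg, h⟩ ⟨g', hg', h'⟩
    refine ⟨g * g', G.mul_mem hg hg', fun x => ?_⟩
    rw [Equiv.Perm.mul_apply, Equiv.Perm.mul_apply, h' x, h (τ' x)]
  one_mem' := ⟨1, G.one_mem, fun x => rfl⟩
  inv_mem' := by
    rintro τ ⟨g, hg, h⟩
    refine ⟨g⁻¹, G.inv_mem hg, fun x => ?_⟩
    rw [Equiv.Perm.inv_eq_iff_eq, h (τ⁻¹ x)]
    simp

theorem mem_restrGroup {α : Type u} {G : Subgroup (Equiv.Perm α)} {F : Finset α}
    {τ : Equiv.Perm ↥F} : τ ∈ restrGroup G F ↔ ∃ g ∈ G, ∀ x : ↥F, g (x : α) = τ x := Iff.rfl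

/-- the image in `α` of a finset of `↥F` -/
def liftSet {α : Type u} (F : Finset α) (D : Finset ↥F) : Finset α :=
  D.map (Function.Embedding.subtype (· ∈ F))

theorem mem_liftSet {α : Type u} (F : Finset α) (D : Finset ↥F) (a : α) :
    a ∈ liftSet F D ↔ ∃ h : a ∈ F, (⟨a, h⟩ : ↥F) ∈ D := by
  unfold liftSet
  rw [Finset.mem_map]
  constructor
  · rintro ⟨y, hy, rfl⟩
    exact ⟨y.2, hy⟩
  · rintro ⟨h, hy⟩
    exact ⟨⟨a, h⟩, hy, rfl⟩

/-- `↥D ≃ ↥(liftSet F D)` -/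
def liftEquiv {α : Type u} (F : Finset α) (D : Finset ↥F) : ↥D ≃ ↥(liftSet F D) where
  toFun x := ⟨((x : ↥F) : α), (mem_liftSet F D _).2 ⟨(x : ↥F).2, x.2⟩⟩
  invFun y := ⟨⟨(y : α), ((mem_liftSet F D _).1 y.2).1⟩, ((mem_liftSet F D _).1 y.2).2⟩
  left_inv _ := rfl
  right_inv _ := rfl

theorem liftEquiv_symm_coe {α : Type u} (F : Finset α) (D : Finset ↥F) (y : ↥(liftSet F D)) :
    ((((liftEquiv F D).symm y : ↥D) : ↥F) : α) = (y : α) := rfl

theorem pkgRestr : PkgRestr.{u} := by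
  intro α _ _ G F k hT
  refine ⟨restrGroup G F, ?_, ?_⟩
  · intro x y
    obtain ⟨g, hg, hstab, hxy⟩ := hT (x.trans (Function.Embedding.subtype (· ∈ F)))
      (y.trans (Function.Embedding.subtype (· ∈ F))) (fun i => (x i).2) (fun i => (y i).2)
    refine ⟨g.subtypePerm (fun a => hstab a), ⟨g, hg, fun z => rfl⟩, fun i => ?_⟩
    exact Subtype.ext (hxy i)
  · rintro ⟨D, hD, hgood⟩
    refine ⟨liftSet F D, ?_, ?_⟩
    · unfold liftSet
      rw [Finset.card_map, hD]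
    · intro σ hσ
      have hσ' : (liftEquiv F D).symm.permCongr σ ∈ alternatingGroup ↥D := by
        rw [Equiv.Perm.mem_alternatingGroup, Equiv.Perm.sign_permCongr]
        exact Equiv.Perm.mem_alternatingGroup.1 hσ
      obtain ⟨τ, ⟨g, hg, hgτ⟩, hτ⟩ := hgood _ hσ'
      refine ⟨g, hg, fun x => ?_⟩
      have h1 := hτ ((liftEquiv F D).symm x)
      have h2 := hgτ (((liftEquiv F D).symm x : ↥D) : ↥F)
      rw [h1] at h2
      rw [Equiv.permCongr_apply, liftEquiv_symm_coe, liftEquiv_symm_coe, Equiv.symm_symm,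
        Equiv.apply_symm_apply] at h2
      exact h2

end Cfsg.Agent.Lib.Helper46.KAlt
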